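import Groth.Agent.LC.GorQuot
import Groth.Agent.LC.GorFlat

/-! Lifting the Gorenstein property along a regular sequence. -/

set_option autoImplicit false

universe u

open IsLocalRing

namespace Groth.Agent.InvGor

variable {A : Type u} [CommRing A] [IsLocalRing A] [IsNoetherianRing A]

theorem isLocalRing_quot' {J : Ideal A} (hJ : J ≤ maximalIdeal A) : IsLocalRing (A ⧸ J) := by
  have : Nontrivial (A ⧸ J) := Ideal.Quotient.nontrivial_iff.2 fun h =>
    (maximalIdeal.isMaximal A).ne_top (top_unique (h ▸ hJ))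
  exact .of_surjective' _ Ideal.Quotient.mk_surjective

theorem ofList_le_max (rs : List A) (hmem : ∀ r ∈ rs, r ∈ maximalIdeal A) : Ideal.ofList rs ≤ maximalIdeal A :=
  Ideal.span_le.2 hmem

theorem gorenstein_of_ofList (rs : List A) (hmem : ∀ r ∈ rs, r ∈ maximalIdeal A)
    (hreg : RingTheory.Sequence.IsWeaklyRegular A rs)
    (hG : LocCoh.IsGorensteinLocalRing (A ⧸ Ideal.ofList rs)) : LocCoh.IsGorensteinLocalRing A := by
  induction rs using List.reverseRecOn with
  | nil =>
    have := isLocalRing_quot' (ofList_le_max ([] : List A) hmem)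
    exact LC.gorenstein_of_ringEquiv
      ((Ideal.quotEquivOfEq (Ideal.ofList_nil (R := A))).trans (RingEquiv.quotientBot A))
  | append_singleton rs x ih =>
    rw [LC.isWeaklyRegular_concat_iff] at hreg
    have hmem' : ∀ r ∈ rs, r ∈ maximalIdeal A := fun r hr => hmem r (by simp [hr])
    have := isLocalRing_quot' (ofList_le_max rs hmem')
    let x' := Ideal.Quotient.mk (Ideal.ofList rs) x
    have hx' : x' ∈ maximalIdeal (A ⧸ Ideal.ofList rs) := by
      rw [mem_maximalIdeal, mem_nonunits_iff]
      intro hu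
      have := IsLocalHom.of_surjective (Ideal.Quotient.mk (Ideal.ofList rs)) Ideal.Quotient.mk_surjective
      exact (mem_maximalIdeal _).1 (hmem x (by simp)) (isUnit_of_map_unit _ _ hu)
    have hsup : Ideal.ofList rs ⊔ Ideal.span {x} = Ideal.ofList (rs ++ [x]) := by
      rw [Ideal.ofList_append, Ideal.ofList_singleton]
    have hmap : (Ideal.span {x}).map (Ideal.Quotient.mk (Ideal.ofList rs)) = Ideal.span {x'} := by
      rw [Ideal.map_span, Set.image_singleton]
    let e : (A ⧸ Ideal.ofList rs) ⧸ Ideal.span {x'} ≃+* A ⧸ Ideal.ofList (rs ++ [x]) :=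
      (Ideal.quotEquivOfEq hmap.symm).trans ((DoubleQuot.quotQuotEquivQuotSup _ _).trans (Ideal.quotEquivOfEq hsup))
    have := isLocalRing_quot' (ofList_le_max (rs ++ [x]) hmem)
    have : IsLocalRing ((A ⧸ Ideal.ofList rs) ⧸ Ideal.span {x'}) :=
      isLocalRing_quot' ((Ideal.span_singleton_le_iff_mem _).2 hx')
    have : LocCoh.IsGorensteinLocalRing ((A ⧸ Ideal.ofList rs) ⧸ Ideal.span {x'}) :=
      LC.gorenstein_of_ringEquiv e.symm
    refine ih hmem' hreg.1 (LC.gorenstein_of_quotient hx' fun a b hab => ?_)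
    obtain ⟨a, rfl⟩ := Ideal.Quotient.mk_surjective a
    obtain ⟨b, rfl⟩ := Ideal.Quotient.mk_surjective b
    have h1 := Ideal.Quotient.eq.1 (show Ideal.Quotient.mk (Ideal.ofList rs) (x * a) =
      Ideal.Quotient.mk _ (x * b) from by rw [map_mul, map_mul]; exact hab)
    have e : (Ideal.ofList rs • (⊤ : Submodule A A)) = Ideal.ofList rs := by
      rw [smul_eq_mul, Ideal.mul_top]
    refine Ideal.Quotient.eq.2 ?_
    have h2 : (Submodule.Quotient.mk (a - b) : A ⧸ (Ideal.ofList rs • (⊤ : Submodule A A))) = 0 := by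
      refine hreg.2 ?_
      show x • Submodule.Quotient.mk (a - b) = x • 0
      rw [smul_zero, ← Submodule.Quotient.mk_smul, Submodule.Quotient.mk_eq_zero, e, smul_eq_mul, mul_sub]
      exact h1
    rwa [Submodule.Quotient.mk_eq_zero, e] at h2

end Groth.Agent.InvGor
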