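import Groth.Agent.GrLib8.StarField
import Mathlib.RingTheory.MvPolynomial.Homogeneous
import Mathlib.RingTheory.Invariant.Basic
import Mathlib.RingTheory.MvPolynomial.Ideal
import Mathlib.LinearAlgebra.Matrix.GeneralLinearGroup.Defs

/-! Invariants of a linear action on a polynomial ring: averaging, grading, the origin. -/

set_option autoImplicit false
set_option linter.unusedSectionVars false

open MvPolynomial DirectSum

namespace Groth.Agent.InvGor

universe u

/-- The standing data. -/
structure LinAct (k : Type u) [Field k] (n : ℕ) (G : Type u) [Group G]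
    [MulSemiringAction G (MvPolynomial (Fin n) k)] : Type u where
  ρ : G →* Matrix.GeneralLinearGroup (Fin n) k
  hC : ∀ (g : G) (c : k), g • (C c : MvPolynomial (Fin n) k) = C c
  hX : ∀ (g : G) (i : Fin n), g • (X i : MvPolynomial (Fin n) k) =
      ∑ j : Fin n, (ρ g : Matrix (Fin n) (Fin n) k) j i • (X j : MvPolynomial (Fin n) k)

variable {k : Type u} [Field k] {n : ℕ} {G : Type u} [Group G] [Fintype G]
  [MulSemiringAction G (MvPolynomial (Fin n) k)]

local notation "RP" => MvPolynomial (Fin n) k

theorem LinAct.smul_eq_eval₂ (L : LinAct k n G) (g : G) (f : RP) :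
    g • f = f.eval₂ C (fun i => g • (X i : RP)) := by
  have h : MulSemiringAction.toRingHom G RP g = MvPolynomial.eval₂Hom C (fun i => g • (X i : RP)) := by
    refine MvPolynomial.ringHom_ext (fun c => ?_) (fun i => ?_)
    · simp [L.hC]
    · simp
  exact congrArg (fun φ : RP →+* RP => φ f) h

theorem LinAct.isHomogeneous_smul (L : LinAct k n G) (g : G) {f : RP} {d : ℕ} (hf : f.IsHomogeneous d) :
    (g • f).IsHomogeneous d := by
  rw [L.smul_eq_eval₂]
  have h := hf.eval₂ (n := 1) (C : k →+* RP) (fun i => g • (X i : RP)) (fun c => isHomogeneous_C _ c) fun i => by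
    rw [L.hX]
    refine IsHomogeneous.sum _ _ _ fun j _ => ?_
    rw [smul_eq_C_mul]
    exact (isHomogeneous_X k j).C_mul _
  rwa [one_mul] at h

theorem LinAct.homogeneousComponent_smul (L : LinAct k n G) (g : G) (f : RP) (d : ℕ) :
    homogeneousComponent d (g • f) = g • homogeneousComponent d f := by
  conv_lhs => rw [← sum_homogeneousComponent f, Finset.smul_sum, map_sum]
  rw [Finset.sum_eq_single d]
  · exact (homogeneousComponent_of_mem (L.isHomogeneous_smul g (homogeneousComponent_isHomogeneous d f))).trans (if_pos rfl)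
  · intro e _ hne
    exact (homogeneousComponent_of_mem (L.isHomogeneous_smul g (homogeneousComponent_isHomogeneous e f))).trans (if_neg hne.symm)
  · intro hd
    rw [homogeneousComponent_eq_zero d f (by simpa using hd), smul_zero, map_zero]

theorem LinAct.constantCoeff_smul (L : LinAct k n G) (g : G) (f : RP) :
    constantCoeff (g • f) = constantCoeff f := by
  have h : (constantCoeff (σ := Fin n) (R := k)).comp (MulSemiringAction.toRingHom G RP g) = constantCoeff := by
    refine MvPolynomial.ringHom_ext (fun c => ?_) (fun i => ?_)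
    · simp [L.hC]
    · simp [L.hX, smul_eq_C_mul]
  exact congrArg (fun φ : RP →+* k => φ f) h

variable {A : Type u} [CommRing A] [Algebra A (MvPolynomial (Fin n) k)] [SMulCommClass G A (MvPolynomial (Fin n) k)]
  [Algebra.IsInvariant A (MvPolynomial (Fin n) k) G] [FaithfulSMul A (MvPolynomial (Fin n) k)]

local notation "ι" => algebraMap A RP

theorem smul_ι (g : G) (a : A) : g • ι a = ι a := smul_algebraMap g a

theorem exists_eq_of_fixed {r : RP} (h : ∀ g : G, g • r = r) : ∃ a : A, ι a = r :=
  Algebra.IsInvariant.isInvariant r h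

theorem ι_injective : Function.Injective ι := FaithfulSMul.algebraMap_injective A RP

variable (L : LinAct k n G) (hG : IsUnit ((Fintype.card G : ℕ) : k))
include L

/-- The average. -/
noncomputable def avg (r : RP) : RP := C (Fintype.card G : k)⁻¹ * ∑ g : G, g • r

omit L in
theorem avg_add (r s : RP) : avg (G := G) (r + s) = avg (G := G) r + avg (G := G) s := by
  simp [avg, Finset.sum_add_distrib, mul_add]

omit L in
theorem avg_ι_mul (a : A) (r : RP) : avg (G := G) (ι a * r) = ι a * avg (G := G) r := by
  simp only [avg, smul_mul', smul_ι, ← Finset.mul_sum]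
  ring

theorem avg_fixed (r : RP) (h : G) : h • avg (G := G) r = avg (G := G) r := by
  rw [avg, smul_mul', L.hC, Finset.smul_sum]
  congr 1
  exact Fintype.sum_equiv (Equiv.mulLeft h) _ _ fun g => by simp [mul_smul]

include hG in
omit L in
theorem avg_of_fixed {r : RP} (h : ∀ g : G, g • r = r) : avg (G := G) r = r := by
  rw [avg, Finset.sum_congr rfl fun g _ => h g, Finset.sum_const, Finset.card_univ, nsmul_eq_mul, ← mul_assoc,
    show ((Fintype.card G : ℕ) : RP) = C (Fintype.card G : k) from (map_natCast C _).symm, ← map_mul,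
    inv_mul_cancel₀ hG.ne_zero, map_one, one_mul]

/-- The Reynolds operator. -/
noncomputable def rey : RP →ₗ[A] A where
  toFun r := (exists_eq_of_fixed (A := A) (avg_fixed L r)).choose
  map_add' r s := ι_injective (k := k) (n := n) (A := A) (by
    rw [map_add, (exists_eq_of_fixed (A := A) (avg_fixed L (r + s))).choose_spec,
      (exists_eq_of_fixed (A := A) (avg_fixed L r)).choose_spec,
      (exists_eq_of_fixed (A := A) (avg_fixed L s)).choose_spec, avg_add])
  map_smul' a r := ι_injective (k := k) (n := n) (A := A) (by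
    rw [RingHom.id_apply, smul_eq_mul, map_mul, (exists_eq_of_fixed (A := A) (avg_fixed L (a • r))).choose_spec,
      (exists_eq_of_fixed (A := A) (avg_fixed L r)).choose_spec, Algebra.smul_def, avg_ι_mul])

theorem ι_rey (r : RP) : ι (rey L r) = avg (G := G) r :=
  (exists_eq_of_fixed (A := A) (avg_fixed L r)).choose_spec

include hG in
theorem rey_ι (a : A) : rey L (ι a) = a :=
  ι_injective (k := k) (n := n) (A := A) ((ι_rey L _).trans (avg_of_fixed hG fun g => smul_ι g a))

theorem rey_ι_mul (a : A) (r : RP) : rey L (ι a * r) = a * rey L r := by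
  rw [← Algebra.smul_def, map_smul, smul_eq_mul]

theorem rey_mem_of_mem_map {J : Ideal A} {r : RP} (h : r ∈ J.map ι) : rey L r ∈ J := by
  suffices hs : ∀ r ∈ J.map ι, ∀ s : RP, rey L (s * r) ∈ J by simpa using hs r h 1
  intro r hr
  induction hr using Submodule.span_induction with
  | mem x hx =>
    obtain ⟨a, ha, rfl⟩ := hx
    intro s
    rw [mul_comm s, rey_ι_mul]
    exact J.mul_mem_right _ ha
  | zero => intro s; rw [mul_zero, map_zero]; exact J.zero_mem
  | add x y _ _ hx hy => intro s; rw [mul_add, map_add]; exact J.add_mem (hx s) (hy s)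
  | smul c x _ hx => intro s; rw [smul_eq_mul, ← mul_assoc]; exact hx _

include hG in
theorem mem_of_ι_mem_map {J : Ideal A} {a : A} (h : ι a ∈ J.map ι) : a ∈ J := by
  simpa [rey_ι L hG] using rey_mem_of_mem_map L h

include hG in
theorem isNoetherian_inv : IsNoetherianRing A := by
  have hmono : StrictMono fun J : Ideal A => J.map ι := fun J J' hJ =>
    (Ideal.map_mono hJ.le).lt_of_ne fun h => hJ.ne (le_antisymm hJ.le fun a ha =>
      mem_of_ι_mem_map L hG (h.symm ▸ Ideal.mem_map_of_mem _ ha))
  rw [isNoetherianRing_iff, isNoetherian_iff']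
  exact hmono.wellFoundedGT

/-- The homogeneous invariants. -/
def igr (_L : LinAct k n G) (A : Type u) [CommRing A] [Algebra A RP] (d : ℤ) : AddSubgroup A where
  carrier := {a | ∀ j : ℕ, (j : ℤ) ≠ d → homogeneousComponent j (algebraMap A RP a) = 0}
  add_mem' {p q} hp hq j hj := by simp [hp j hj, hq j hj]
  zero_mem' j _ := by simp
  neg_mem' {p} hp j hj := by simp [hp j hj]

theorem isHomogeneous_of_mem_igr {j : ℕ} {a : A} (ha : a ∈ igr L A (j : ℤ)) : (ι a).IsHomogeneous j := by
  rw [← sum_homogeneousComponent (ι a)]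
  refine IsHomogeneous.sum _ _ _ fun e _ => ?_
  by_cases he : e = j
  · exact he ▸ homogeneousComponent_isHomogeneous e _
  · rw [ha e (by exact_mod_cast he)]
    exact isHomogeneous_zero _ _ _

theorem mem_igr_of_isHomogeneous {j : ℕ} {a : A} (ha : (ι a).IsHomogeneous j) : a ∈ igr L A (j : ℤ) := fun e he =>
  (homogeneousComponent_of_mem ha).trans (if_neg fun h => he (by rw [h]))

theorem igr_neg {d : ℤ} (hd : d < 0) : igr L A d = ⊥ := by
  rw [eq_bot_iff]
  intro a ha
  refine AddSubgroup.mem_bot.2 (ι_injective (k := k) (n := n) (A := A) ?_)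
  rw [map_zero, ← sum_homogeneousComponent (ι a)]
  exact Finset.sum_eq_zero fun j _ => ha j (by omega)

/-- The component. -/
noncomputable def comp (d : ℕ) (a : A) : A :=
  (exists_eq_of_fixed (A := A) (r := homogeneousComponent d (ι a)) fun g => by
    rw [← L.homogeneousComponent_smul, smul_ι]).choose

theorem ι_comp (d : ℕ) (a : A) : ι (comp L d a) = homogeneousComponent d (ι a) :=
  (exists_eq_of_fixed (A := A) (r := homogeneousComponent d (ι a)) fun g => by
    rw [← L.homogeneousComponent_smul, smul_ι]).choose_spec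

theorem comp_mem (d : ℕ) (a : A) : comp L d a ∈ igr L A (d : ℤ) :=
  mem_igr_of_isHomogeneous L (by rw [ι_comp]; exact homogeneousComponent_isHomogeneous _ _)

theorem sum_comp (a : A) : a = ∑ d ∈ Finset.range ((ι a).totalDegree + 1), comp L d a :=
  ι_injective (k := k) (n := n) (A := A) (by
    rw [map_sum, Finset.sum_congr rfl fun d _ => ι_comp L d a, sum_homogeneousComponent])

theorem component_coe (j : ℕ) (x : ⨁ d : ℤ, igr L A d) :
    homogeneousComponent j (ι (DirectSum.coeAddMonoidHom (igr L A) x)) = ι ((x (j : ℤ) : igr L A (j : ℤ)) : A) := by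
  classical
  induction x using DirectSum.induction_on with
  | zero => simp
  | of d y =>
    rw [DirectSum.coeAddMonoidHom_of]
    rcases eq_or_ne d (j : ℤ) with rfl | hne
    · rw [DirectSum.of_eq_same]
      exact (homogeneousComponent_of_mem (isHomogeneous_of_mem_igr L y.2)).trans (if_pos rfl)
    · rw [DirectSum.of_eq_of_ne _ _ _ hne.symm]
      simpa using y.2 j hne.symm
  | add a b ha hb => simp [ha, hb]

theorem igr_isInternal : DirectSum.IsInternal (igr L A) := by
  classical
  constructor
  · intro x y hxy
    refine DFinsupp.ext fun d => Subtype.ext (ι_injective (k := k) (n := n) (A := A) ?_)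
    rcases lt_or_ge d 0 with hd | hd
    · have h0 : ∀ z : igr L A d, (z : A) = 0 := fun z =>
        AddSubgroup.mem_bot.1 ((igr_neg L (A := A) hd) ▸ z.2)
      rw [h0, h0]
    · obtain ⟨j, rfl⟩ := Int.eq_ofNat_of_zero_le hd
      rw [← component_coe L, ← component_coe L, hxy]
  · intro a
    refine ⟨∑ d ∈ Finset.range ((ι a).totalDegree + 1), DirectSum.of (fun i => igr L A i) (d : ℤ)
      ⟨comp L d a, comp_mem L d a⟩, ?_⟩
    rw [map_sum]
    simp only [DirectSum.coeAddMonoidHom_of]
    exact (sum_comp L a).symm

/-- The grading of the invariants. -/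
@[instance_reducible]
noncomputable def igrGraded : GradedRing (igr L A) where
  one_mem := mem_igr_of_isHomogeneous L (by rw [map_one]; exact isHomogeneous_one _ _)
  mul_mem := fun i j a b ha hb => by
    rcases lt_or_ge i 0 with hi | hi
    · rw [igr_neg L hi, AddSubgroup.mem_bot] at ha
      rw [ha, zero_mul]
      exact zero_mem _
    rcases lt_or_ge j 0 with hj | hj
    · rw [igr_neg L hj, AddSubgroup.mem_bot] at hb
      rw [hb, mul_zero]
      exact zero_mem _
    obtain ⟨i, rfl⟩ := Int.eq_ofNat_of_zero_le hi
    obtain ⟨j, rfl⟩ := Int.eq_ofNat_of_zero_le hj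
    rw [← Nat.cast_add]
    exact mem_igr_of_isHomogeneous L (by
      rw [map_mul]
      exact (isHomogeneous_of_mem_igr L ha).mul (isHomogeneous_of_mem_igr L hb))
  toDecomposition := DirectSum.IsInternal.chooseDecomposition _ (igr_isInternal L)

theorem constantCoeff_comp_zero (a : A) : ι (comp L 0 a) = C (constantCoeff (ι a)) := by
  rw [ι_comp, homogeneousComponent_zero, constantCoeff_eq]

theorem irrel_eq :
    letI := igrGraded (A := A) L
    (GrSyz.irrel (igr L A)).toIdeal = (RingHom.ker (constantCoeff (σ := Fin n) (R := k))).comap ι := by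
  letI := igrGraded (A := A) L
  refine le_antisymm (Ideal.span_le.2 ?_) fun a ha => ?_
  · rintro r ⟨d, hd, hr⟩
    have h0 := hr 0 (by omega)
    rw [homogeneousComponent_zero] at h0
    show constantCoeff (ι r) = 0
    rw [constantCoeff_eq]
    exact C_eq_zero.1 h0
  · rw [sum_comp L a]
    refine Ideal.sum_mem _ fun d _ => ?_
    rcases Nat.eq_zero_or_pos d with rfl | hd
    · have : comp L 0 a = 0 := ι_injective (k := k) (n := n) (A := A) (by
        rw [constantCoeff_comp_zero, show constantCoeff (ι a) = 0 from ha, map_zero, map_zero])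
      rw [this]
      exact zero_mem _
    · exact Ideal.subset_span ⟨d, by exact_mod_cast hd, comp_mem L d a⟩

theorem isField_deg0 :
    letI := igrGraded (A := A) L
    IsField (GrLC.deg0 (igr L A)) := by
  letI := igrGraded (A := A) L
  have hc : ∀ z : GrLC.deg0 (igr L A), ι (z : A) = C (constantCoeff (ι (z : A))) := fun z => by
    have h := isHomogeneous_of_mem_igr L (j := 0) z.2
    rw [constantCoeff_eq, ← homogeneousComponent_zero]
    exact ((homogeneousComponent_of_mem h).trans (if_pos rfl)).symm
  refine ⟨⟨0, 1, fun h => ?_⟩, mul_comm, fun {z} hz => ?_⟩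
  · have h' := congrArg (fun w : GrLC.deg0 (igr L A) => ι (w : A)) h
    simp at h'
  · have hc0 : constantCoeff (ι (z : A)) ≠ 0 := fun h => hz (Subtype.ext (ι_injective (k := k) (n := n) (A := A) (by
      rw [hc z, h, map_zero]; simp)))
    obtain ⟨w, hw⟩ := exists_eq_of_fixed (A := A) (r := C (constantCoeff (ι (z : A)))⁻¹) fun g : G => L.hC g _
    refine ⟨⟨w, mem_igr_of_isHomogeneous L (j := 0) (by rw [hw]; exact isHomogeneous_C _ _)⟩, Subtype.ext ?_⟩
    refine ι_injective (k := k) (n := n) (A := A) ?_
    show ι ((z : A) * w) = ι 1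
    rw [map_mul, hc z, hw, ← map_mul, mul_inv_cancel₀ hc0, map_one, map_one]

end Groth.Agent.InvGor
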