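import Mathlib.LinearAlgebra.Matrix.Adjugate
import Mathlib.RingTheory.MvPolynomial.Ideal
import Mathlib.RingTheory.Ideal.Span

/-! Independence of the determinant of a presentation `x = M X`, for `X` with Koszul relations only. -/

namespace Groth.Agent.InvGor

open Matrix

universe u

variable {R : Type u} [CommRing R] {n : ℕ} (X : Fin n → R)

/-- A Koszul relation. -/
def kz (j l : Fin n) : Fin n → R := X l • Pi.single j 1 - X j • Pi.single l 1

/-- All relations are Koszul relations. -/
def Koz : Prop :=
  ∀ δ : Fin n → R, ∑ j, δ j * X j = 0 → δ ∈ Submodule.span R (Set.range fun p : Fin n × Fin n => kz X p.1 p.2)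

lemma det_mul_mem (M : Matrix (Fin n) (Fin n) R) (j : Fin n) :
    M.det * X j ∈ Ideal.span (Set.range (M *ᵥ X)) := by
  have h : ((M.adjugate * M) *ᵥ X) j = M.det * X j := by
    rw [Matrix.adjugate_mul, Matrix.smul_mulVec, Matrix.one_mulVec, Pi.smul_apply, smul_eq_mul]
  rw [← h, ← Matrix.mulVec_mulVec]
  show ∑ c, M.adjugate j c * (M *ᵥ X) c ∈ _
  exact Ideal.sum_mem _ fun c _ => Ideal.mul_mem_left _ _ (Ideal.subset_span (Set.mem_range_self c))

lemma det_updateRow_kz_mem (M : Matrix (Fin n) (Fin n) R) (i j l : Fin n) :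
    (M.updateRow i (kz X j l)).det ∈ Ideal.span (Set.range (M *ᵥ X)) := by
  classical
  let N := M.updateRow i (Pi.single j 1)
  let N' := M.updateRow i (Pi.single l 1)
  have h1 : (M.updateRow i (kz X j l)).det = X l * N.det - X j * N'.det := by
    rw [kz, sub_eq_add_neg, Matrix.det_updateRow_add, ← neg_smul, Matrix.det_updateRow_smul,
      Matrix.det_updateRow_smul]
    ring
  have h2 : ((N.adjugate * N) *ᵥ X) l = N.det * X l := by
    rw [Matrix.adjugate_mul, Matrix.smul_mulVec, Matrix.one_mulVec, Pi.smul_apply, smul_eq_mul]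
  rw [← Matrix.mulVec_mulVec, Matrix.mulVec, dotProduct, Finset.sum_eq_add_sum_sdiff_singleton_of_mem (Finset.mem_univ i)] at h2
  have h3 : N.adjugate l i = N'.det := by
    rw [Matrix.adjugate_apply]
    congr 1
    ext a b
    by_cases ha : a = i <;> simp [N, N', Matrix.updateRow_apply, ha]
  have h4 : (N *ᵥ X) i = X j := by
    simp [N, Matrix.mulVec, dotProduct, Matrix.updateRow_self, Pi.single_apply]
  have h5 : ∀ c, c ≠ i → (N *ᵥ X) c = (M *ᵥ X) c := fun c hc => by
    simp [N, Matrix.mulVec, dotProduct, Matrix.updateRow_ne hc]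
  rw [h3, h4] at h2
  have h6 : ∑ x ∈ Finset.univ \ {i}, N.adjugate l x * (N *ᵥ X) x ∈ Ideal.span (Set.range (M *ᵥ X)) :=
    Ideal.sum_mem _ fun c hc => by
      rw [h5 c (by simpa using hc)]
      exact Ideal.mul_mem_left _ _ (Ideal.subset_span ⟨c, rfl⟩)
  rw [h1, mul_comm (X l), ← h2, mul_comm (X j) N'.det, add_sub_cancel_left]
  exact h6

variable {X}

lemma det_updateRow_mem (hX : Koz X) (M : Matrix (Fin n) (Fin n) R) (i : Fin n) (δ : Fin n → R)
    (hδ : ∑ j, δ j * X j = 0) : (M.updateRow i δ).det ∈ Ideal.span (Set.range (M *ᵥ X)) := by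
  have h := hX δ hδ
  clear hδ
  induction h using Submodule.span_induction with
  | mem x hx => obtain ⟨p, rfl⟩ := hx; exact det_updateRow_kz_mem X M i p.1 p.2
  | zero =>
    rw [show (0 : Fin n → R) = (0 : R) • (0 : Fin n → R) from (zero_smul _ _).symm, Matrix.det_updateRow_smul, zero_mul]
    exact zero_mem _
  | add a b _ _ ha hb => rw [Matrix.det_updateRow_add]; exact add_mem ha hb
  | smul r a _ ha => rw [Matrix.det_updateRow_smul]; exact Ideal.mul_mem_left _ _ ha

/-- The determinant only depends on `x` modulo `(x)`. -/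
theorem det_sub_det_mem (hX : Koz X) (M M' : Matrix (Fin n) (Fin n) R) (x : Fin n → R)
    (h : M *ᵥ X = x) (h' : M' *ᵥ X = x) : M.det - M'.det ∈ Ideal.span (Set.range x) := by
  classical
  let Ms := fun (s : Finset (Fin n)) => (Matrix.of fun i => if i ∈ s then M' i else M i)
  have hMs : ∀ s, Ms s *ᵥ X = x := fun s => by
    funext i
    by_cases hi : i ∈ s
    · rw [← congrFun h' i]; simp [Ms, Matrix.mulVec, dotProduct, hi]
    · rw [← congrFun h i]; simp [Ms, Matrix.mulVec, dotProduct, hi]
  suffices hs : ∀ s, M.det - (Ms s).det ∈ Ideal.span (Set.range x) by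
    have h0 := hs Finset.univ
    rwa [show Ms Finset.univ = M' by ext i j; simp [Ms]] at h0
  intro s
  induction s using Finset.induction_on with
  | empty => rw [show Ms ∅ = M by ext i j; simp [Ms], sub_self]; exact zero_mem _
  | insert a s ha ih =>
    have hsum : ∀ (N : Matrix (Fin n) (Fin n) R), N *ᵥ X = x → ∑ j, N a j * X j = x a := fun N hN => by
      rw [← congrFun hN a]
      rfl
    have hδ : ∑ j, (M a j - M' a j) * X j = 0 := by
      simp only [sub_mul, Finset.sum_sub_distrib, hsum M h, hsum M' h', sub_self]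
    have key := det_updateRow_mem hX (Ms s) a _ hδ
    rw [hMs] at key
    have e : (Ms s).det = (Ms (insert a s)).det + ((Ms s).updateRow a fun j => M a j - M' a j).det := by
      conv_lhs => rw [← Matrix.updateRow_eq_self (Ms s) a,
        show Ms s a = M' a + (fun j => M a j - M' a j) by funext j; simp [Ms, ha], Matrix.det_updateRow_add]
      congr 2
      ext i j
      by_cases hi : i = a
      · subst hi; simp [Ms]
      · simp [Ms, Matrix.updateRow_ne hi, hi]
    have := sub_mem ih (neg_mem key)
    rw [sub_neg_eq_add, e] at this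
    convert this using 1
    ring

/-- Variables have only Koszul relations. -/
theorem koz_X (k : Type u) [CommRing k] (n : ℕ) : Koz (fun i : Fin n => (MvPolynomial.X i : MvPolynomial (Fin n) k)) := by
  classical
  let V : Fin n → MvPolynomial (Fin n) k := fun i => MvPolynomial.X i
  suffices h : ∀ (s : Finset (Fin n)) (δ : Fin n → MvPolynomial (Fin n) k), (∀ j ∉ s, δ j = 0) →
      ∑ j, δ j * V j = 0 → δ ∈ Submodule.span _ (Set.range fun p : Fin n × Fin n => kz V p.1 p.2) from
    fun δ hδ => h Finset.univ δ (fun j hj => absurd (Finset.mem_univ j) hj) hδ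
  intro s
  induction s using Finset.induction_on with
  | empty =>
    intro δ hs _
    rw [show δ = 0 from funext fun j => hs j (Finset.notMem_empty j)]
    exact zero_mem _
  | insert a s ha ih =>
    intro δ hs hδ
    have hsplit : δ a * V a + ∑ j ∈ s, δ j * V j = 0 := by
      rw [← Finset.sum_insert (f := fun j => δ j * V j) ha]
      rw [Finset.sum_subset (Finset.subset_univ _) fun j _ hj => by rw [hs j hj, zero_mul]]
      exact hδ
    have hmem : δ a ∈ Ideal.span (V '' (s : Set (Fin n))) := by
      have h1 : δ a * V a ∈ Ideal.span (V '' (s : Set (Fin n))) := by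
        rw [eq_neg_of_add_eq_zero_left hsplit]
        exact neg_mem (Ideal.sum_mem _ fun j hj => Ideal.mul_mem_left _ _ (Ideal.subset_span ⟨j, hj, rfl⟩))
      rw [MvPolynomial.mem_ideal_span_X_image] at h1 ⊢
      intro m hm
      obtain ⟨i, hi, hmi⟩ := h1 (m + Finsupp.single a 1) (by
        rw [MvPolynomial.mem_support_iff, MvPolynomial.coeff_mul_X]
        exact MvPolynomial.mem_support_iff.1 hm)
      refine ⟨i, hi, ?_⟩
      have hia : i ≠ a := fun h => ha (h ▸ hi)
      simpa [Finsupp.single_apply, hia.symm] using hmi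
    obtain ⟨c, hc⟩ := (Submodule.mem_span_image_finset_iff_exists_fun' (R := MvPolynomial (Fin n) k) (v := V)).1 hmem
    let K := ∑ i ∈ s, c i • kz V a i
    have hKmem : K ∈ Submodule.span _ (Set.range fun p : Fin n × Fin n => kz V p.1 p.2) :=
      Submodule.sum_mem _ fun i _ => Submodule.smul_mem _ _ (Submodule.subset_span ⟨(a, i), rfl⟩)
    have hKrel : ∑ j, K j * V j = 0 := by
      simp only [K, Finset.sum_apply, Finset.sum_mul]
      rw [Finset.sum_comm]
      refine Finset.sum_eq_zero fun i _ => ?_
      simp [kz, sub_mul, mul_sub, Finset.sum_sub_distrib, Pi.single_apply, mul_assoc, mul_comm (V i) (V a)]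
    have := ih (δ - K) (fun j hj => ?_) (by
      simp only [Pi.sub_apply, sub_mul, Finset.sum_sub_distrib, hδ, hKrel, sub_zero])
    · have h2 := add_mem this hKmem
      rwa [sub_add_cancel] at h2
    · by_cases hja : j = a
      · subst hja
        rw [Pi.sub_apply, sub_eq_zero, ← hc]
        simp only [K, Finset.sum_apply]
        refine Finset.sum_congr rfl fun i hi => ?_
        have hij : j ≠ i := fun h => hj (h ▸ hi)
        simp [kz, hij]
      · rw [Pi.sub_apply, hs j (by simp [hja, hj]), zero_sub, neg_eq_zero]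
        simp only [K, Finset.sum_apply]
        refine Finset.sum_eq_zero fun i hi => ?_
        have hji : j ≠ i := fun h => hj (h ▸ hi)
        simp [kz, hja, hji]

end Groth.Agent.InvGor
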