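import Mathlib
import Groth.Agent.InvGor.Setup
import Groth.Agent.InvGor.OfList
import Groth.Agent.InvGor.Wiebe
import Groth.Agent.CohenLib.Structure
import Groth.Agent.VarDim.Basic
import Groth.Agent.PPoly4.PReg
import Groth.Agent.LC.Sop
import Groth.Agent.LC.GorQuot
import Groth.Agent.LC.GorFlat
import Groth.Agent.LC.GorRows
import Groth.Agent.CotTLib.CI
import Groth.Agent.GrLib8.StarGorConv
import Groth.Agent.GrLib8.StarField
import Groth.Agent.GrSect6.Gorenstein

/-! Watanabe: invariants of a finite subgroup of `SL_n` in coprime characteristic are Gorenstein. -/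

set_option autoImplicit false
set_option linter.unusedSectionVars false
set_option maxHeartbeats 1600000

open MvPolynomial IsLocalRing

namespace Groth.Agent.InvGor

universe u

section General

variable {R : Type u} [CommRing R] [IsLocalRing R]

/-- A nonzero element has a nonzero multiple in the socle. -/
theorem exists_socle_multiple (hnil : IsNilpotent (maximalIdeal R)) {z : R} (hz : z ≠ 0) :
    ∃ r, r * z ≠ 0 ∧ ∀ q ∈ maximalIdeal R, q * (r * z) = 0 := by
  classical
  have hex : ∃ j, ∀ q ∈ maximalIdeal R ^ j, q * z = 0 := by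
    obtain ⟨N, hN⟩ := hnil
    exact ⟨N, fun q hq => by
      rw [hN] at hq
      rw [(Submodule.mem_bot R).1 hq, zero_mul]⟩
  obtain hj := Nat.find_spec hex
  rcases hj0 : Nat.find hex with _ | j
  · rw [hj0, pow_zero, Ideal.one_eq_top] at hj
    exact absurd (by simpa using hj 1 trivial) hz
  · rw [hj0] at hj
    have hn := Nat.find_min hex (m := j) (by omega)
    push Not at hn
    obtain ⟨r, hr, hrz⟩ := hn
    refine ⟨r, hrz, fun q hq => ?_⟩
    rw [← mul_assoc]
    exact hj _ (by rw [pow_succ, mul_comm q r]; exact Ideal.mul_mem_mul hr hq)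

theorem isWeaklyRegular_of_mem {R : Type u} [CommRing R] (rs : List R)
    (h : ∀ i (hi : i < rs.length) (b : R), rs[i] * b ∈ Ideal.ofList (rs.take i) → b ∈ Ideal.ofList (rs.take i)) :
    RingTheory.Sequence.IsWeaklyRegular R rs := by
  refine ⟨fun i hi => (isSMulRegular_quotient_iff_mem_of_smul_mem _ _).2 fun b hb => ?_⟩
  rw [smul_eq_mul, Ideal.mul_top] at hb ⊢
  exact h i hi b hb

theorem mem_of_isWeaklyRegular {R : Type u} [CommRing R] {rs : List R}
    (h : RingTheory.Sequence.IsWeaklyRegular R rs) (i : ℕ) (hi : i < rs.length) (b : R)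
    (hb : rs[i] * b ∈ Ideal.ofList (rs.take i)) : b ∈ Ideal.ofList (rs.take i) := by
  have h' := (isSMulRegular_quotient_iff_mem_of_smul_mem _ _).1 (h.regular_mod_prev i hi) b
  rw [smul_eq_mul, smul_eq_mul, Ideal.mul_top] at h'
  exact h' hb

end General

variable {k : Type u} [Field k] {n : ℕ} {G : Type u} [Group G] [Fintype G]
  [MulSemiringAction G (MvPolynomial (Fin n) k)]
  {A : Type u} [CommRing A] [Algebra A (MvPolynomial (Fin n) k)] [SMulCommClass G A (MvPolynomial (Fin n) k)]
  [Algebra.IsInvariant A (MvPolynomial (Fin n) k) G] [FaithfulSMul A (MvPolynomial (Fin n) k)]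

local notation "RP" => MvPolynomial (Fin n) k
local notation "ι" => algebraMap A RP

variable (k n) in
/-- The origin. -/
noncomputable def orig : Ideal RP := RingHom.ker (constantCoeff (σ := Fin n) (R := k))

instance : (orig k n).IsMaximal :=
  RingHom.ker_isMaximal_of_surjective _ fun c => ⟨C c, constantCoeff_C _ c⟩

variable (k n A) in
/-- Its trace on the invariants. -/
noncomputable def origA : Ideal A := (orig k n).comap ι

theorem mem_orig {f : RP} : f ∈ orig k n ↔ constantCoeff f = 0 := RingHom.mem_ker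

theorem mem_origA {a : A} : a ∈ origA k n A ↔ ι a ∈ orig k n := Iff.rfl

theorem orig_eq_span : orig k n = Ideal.span (Set.range (X : Fin n → RP)) := by
  refine le_antisymm (fun f hf => ?_) (Ideal.span_le.2 ?_)
  · rw [← Set.image_univ, mem_ideal_span_X_image]
    intro m hm
    have hm0 : m ≠ 0 := by
      rintro rfl
      exact mem_support_iff.1 hm (mem_orig.1 hf)
    obtain ⟨i, hi⟩ := Finsupp.ne_iff.1 hm0
    exact ⟨i, trivial, hi⟩
  · rintro _ ⟨i, rfl⟩
    exact mem_orig.2 (constantCoeff_X _ i)

theorem height_orig : (orig k n).height = n := by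
  have hm : (maximalIdeal k).map C ≤ orig k n := by
    rw [IsLocalRing.isField_iff_maximalIdeal_eq.1 (Field.toIsField k), Ideal.map_bot]
    exact bot_le
  rw [PPoly4.height_maximal_polynomial (orig k n) hm, IsLocalRing.isField_iff_maximalIdeal_eq.1 (Field.toIsField k),
    Ideal.height_bot, zero_add]

variable (L : LinAct k n G) (hG : IsUnit ((Fintype.card G : ℕ) : k))
include L

theorem smul_orig (g : G) {f : RP} : g • f ∈ orig k n ↔ f ∈ orig k n := by
  rw [mem_orig, mem_orig, L.constantCoeff_smul]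

theorem isIntegral_inv : Algebra.IsIntegral A RP := Algebra.IsInvariant.isIntegral A RP G

theorem origA_isMaximal : (origA k n A).IsMaximal :=
  haveI := isIntegral_inv (A := A) L
  Ideal.isMaximal_comap_of_isIntegral_of_isMaximal (orig k n)

theorem eq_orig_of_comap (P : Ideal RP) [P.IsPrime] (h : P.comap ι = origA k n A) : P = orig k n := by
  obtain ⟨g, hg⟩ := Algebra.IsInvariant.exists_smul_of_under_eq A RP G (orig k n) P h.symm
  rw [hg]
  ext f
  rw [Ideal.mem_pointwise_smul_iff_inv_smul_mem, smul_orig L]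

/-- Invertibility at the origin descends. -/
theorem exists_push {w : RP} (hw : w ∉ orig k n) : ∃ c : A, c ∉ origA k n A ∧ ∃ r, ι c = r * w := by
  classical
  obtain ⟨c, hc⟩ := exists_eq_of_fixed (A := A) (r := ∏ g : G, g • w) fun h => by
    show MulSemiringAction.toRingHom G RP h (∏ g : G, g • w) = _
    rw [map_prod]
    exact Fintype.prod_equiv (Equiv.mulLeft h) _ _ fun g => by simp [mul_smul]
  refine ⟨c, fun h => ?_, ∏ g ∈ Finset.univ.erase (1 : G), g • w, ?_⟩
  · rw [mem_origA, hc, mem_orig, map_prod, Finset.prod_eq_zero_iff] at h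
    obtain ⟨g, -, hg⟩ := h
    rw [L.constantCoeff_smul] at hg
    exact hw (mem_orig.2 hg)
  · rw [hc, ← Finset.mul_prod_erase _ _ (Finset.mem_univ (1 : G)), one_smul, mul_comm]

include hG in
/-- Ideals of the invariants, localised at the origin, are contracted. -/
theorem exists_mul_mem {J : Ideal A} {a : A} {w : RP} (hw : w ∉ orig k n) (h : w * ι a ∈ J.map ι) :
    ∃ c, c ∉ origA k n A ∧ c * a ∈ J := by
  obtain ⟨c, hc, r, hr⟩ := exists_push (A := A) L hw
  refine ⟨c, hc, mem_of_ι_mem_map (A := A) L hG ?_⟩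
  rw [map_mul, hr, mul_assoc]
  exact Ideal.mul_mem_left _ _ h

theorem ringKrullDim_inv : ringKrullDim A = (n : WithBot ℕ∞) := by
  haveI := isIntegral_inv (A := A) L
  rw [← VarDim.ringKrullDim_eq_of_isIntegral (R := A) (S := RP), MvPolynomial.ringKrullDim_of_isNoetherianRing,
    ringKrullDim_eq_zero_of_field, zero_add, Nat.card_fin]

section Sop

/-- `a` is a system of parameters at the origin. -/
def Sop (k : Type u) [Field k] (n : ℕ) {A : Type u} [CommRing A] [Algebra A (MvPolynomial (Fin n) k)]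
    (a : Fin n → A) : Prop :=
  (∀ i, a i ∈ origA k n A) ∧
    ∀ P : Ideal (MvPolynomial (Fin n) k), P.IsPrime →
      Ideal.span (Set.range fun i => algebraMap A (MvPolynomial (Fin n) k) (a i)) ≤ P → P ≤ orig k n → P = orig k n

include hG in
theorem exists_sop : ∃ a : Fin n → A, Sop k n a := by
  classical
  haveI := isNoetherian_inv L hG (A := A)
  haveI := origA_isMaximal (A := A) L
  let B := Localization.AtPrime (origA k n A)
  obtain ⟨e, t, ht, hdim, hrad⟩ := CohenLib.exists_fin_sop B
  choose a s has using fun i => IsLocalization.exists_mk'_eq (origA k n A).primeCompl (t i)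
  have ha : ∀ i, a i ∈ origA k n A := fun i => by
    have := ht i
    rw [← has i] at this
    exact (IsLocalization.AtPrime.mk'_mem_maximal_iff B (origA k n A) (a i) (s i)).1 this
  have hspan : maximalIdeal B ≤ ((Ideal.span (Set.range a)).map (algebraMap A B)).radical := by
    refine hrad.trans (Ideal.radical_mono (Ideal.span_le.2 ?_))
    rintro _ ⟨i, rfl⟩
    rw [← has i, IsLocalization.mk'_eq_mul_mk'_one]
    exact Ideal.mul_mem_right _ _ (Ideal.mem_map_of_mem _ (Ideal.subset_span ⟨i, rfl⟩))
  have hprimes : ∀ P : Ideal RP, P.IsPrime → Ideal.span (Set.range fun i => ι (a i)) ≤ P → P ≤ orig k n →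
      P = orig k n := by
    intro P hP hIP hPM
    refine eq_orig_of_comap (A := A) L P (le_antisymm (Ideal.comap_mono hPM) fun x hx => ?_)
    have h1 : algebraMap A B x ∈ ((Ideal.span (Set.range a)).map (algebraMap A B)).radical :=
      hspan ((IsLocalization.AtPrime.to_map_mem_maximal_iff B (origA k n A) x).2 hx)
    obtain ⟨N, hN⟩ := h1
    rw [← map_pow, IsLocalization.algebraMap_mem_map_algebraMap_iff (origA k n A).primeCompl] at hN
    obtain ⟨c, hc, hcx⟩ := hN
    have hJ : Ideal.span (Set.range a) ≤ P.comap ι := by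
      refine Ideal.span_le.2 ?_
      rintro _ ⟨i, rfl⟩
      exact hIP (Ideal.subset_span ⟨i, rfl⟩)
    rcases (hP.comap ι).mem_or_mem (hJ hcx) with h | h
    · exact absurd (Ideal.comap_mono hPM h) hc
    · exact (hP.comap ι).mem_of_pow_mem N h
  have hen : e = n := by
    refine le_antisymm ?_ ?_
    · have h1 := Ideal.height_le_ringKrullDim_of_ne_top (I := origA k n A) (origA_isMaximal (A := A) L).ne_top
      rw [← IsLocalization.AtPrime.ringKrullDim_eq_height (origA k n A) B, hdim, ringKrullDim_inv L] at h1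
      exact_mod_cast h1
    · have hmin : orig k n ∈ (Ideal.span ((Finset.univ.image fun i => ι (a i) : Finset RP) : Set RP)).minimalPrimes := by
        rw [Finset.coe_image, Finset.coe_univ, Set.image_univ]
        refine ⟨⟨inferInstance, Ideal.span_le.2 ?_⟩, fun P hP hle => (hprimes P hP.1 hP.2 hle).ge⟩
        rintro _ ⟨i, rfl⟩
        exact ha i
      have h1 := (Ideal.height_le_card_of_mem_minimalPrimes_span_finset hmin).trans
        (Nat.cast_le.2 (Finset.card_image_le.trans (Finset.card_fin e).le))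
      rw [height_orig] at h1
      exact_mod_cast h1
  subst hen
  exact ⟨a, ha, hprimes⟩

end Sop

variable {a : Fin n → A} (ha : Sop k n a)
include ha

local notation "RM" => Localization.AtPrime (orig k n)

omit L ha in
theorem map_span_eq : (Ideal.span (Set.range a)).map ι = (Ideal.span (Set.range fun i => ι (a i))) := by
  rw [Ideal.map_span, ← Set.range_comp]
  rfl

theorem radical_localized : ((Ideal.span (Set.range fun i => ι (a i))).map (algebraMap RP RM)).radical = maximalIdeal RM := by
  refine le_antisymm ?_ ?_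
  · refine ((maximalIdeal.isMaximal RM).isPrime.radical_le_iff).2 (Ideal.map_le_iff_le_comap.2 (Ideal.span_le.2 ?_))
    rintro _ ⟨i, rfl⟩
    exact (IsLocalization.AtPrime.to_map_mem_maximal_iff RM (orig k n) _).2 (ha.1 i)
  · rw [Ideal.radical_eq_sInf]
    refine le_sInf ?_
    rintro Q ⟨hQ, hQp⟩
    have h1 : Q.comap (algebraMap RP RM) ≤ orig k n := fun f hf =>
      (IsLocalization.AtPrime.to_map_mem_maximal_iff RM (orig k n) f).1 (le_maximalIdeal hQp.ne_top hf)
    have h2 := ha.2 _ (hQp.comap _) (Ideal.map_le_iff_le_comap.1 hQ) h1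
    rw [← IsLocalization.AtPrime.map_eq_maximalIdeal (orig k n) RM, Ideal.map_le_iff_le_comap, h2]

theorem exists_pow_X_mem : ∃ N, ∃ w : RP, w ∉ orig k n ∧ ∀ j, w * X j ^ (N + 1) ∈ (Ideal.span (Set.range fun i => ι (a i))) := by
  classical
  have h : ∀ j : Fin n, ∃ N, ∃ w : RP, w ∉ orig k n ∧ w * X j ^ N ∈ (Ideal.span (Set.range fun i => ι (a i))) := fun j => by
    have hj : algebraMap RP RM (X j) ∈ ((Ideal.span (Set.range fun i => ι (a i))).map (algebraMap RP RM)).radical := by
      rw [radical_localized L ha]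
      exact (IsLocalization.AtPrime.to_map_mem_maximal_iff RM (orig k n) _).2 (mem_orig.2 (constantCoeff_X _ j))
    obtain ⟨N, hN⟩ := hj
    rw [← map_pow, IsLocalization.algebraMap_mem_map_algebraMap_iff (orig k n).primeCompl] at hN
    exact ⟨N, hN⟩
  choose N w hw hN using h
  refine ⟨Finset.univ.sup N, ∏ j, w j, fun h => ?_, fun j => ?_⟩
  · rw [mem_orig, map_prod, Finset.prod_eq_zero_iff] at h
    obtain ⟨j, -, hj⟩ := h
    exact hw j (mem_orig.2 hj)
  · obtain ⟨m, hm⟩ := Nat.exists_eq_add_of_le (show N j ≤ Finset.univ.sup N + 1 from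
      (Finset.le_sup (Finset.mem_univ j)).trans (Nat.le_succ _))
    rw [← Finset.mul_prod_erase _ _ (Finset.mem_univ j), hm, pow_add,
      show w j * (∏ x ∈ Finset.univ.erase j, w x) * (X j ^ N j * X j ^ m) =
        (∏ x ∈ Finset.univ.erase j, w x) * X j ^ m * (w j * X j ^ N j) by ring]
    exact Ideal.mul_mem_left _ _ (hN j)

variable {Mat : Matrix (Fin n) (Fin n) (MvPolynomial (Fin n) k)}
  (hMat : Matrix.mulVec Mat X = fun i => algebraMap A (MvPolynomial (Fin n) k) (a i))
include hMat

/-- The transition determinant survives at the origin. -/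
theorem det_not_mem {w : RP} (hw : w ∉ orig k n) : w * Mat.det ∉ (Ideal.span (Set.range fun i => ι (a i))) := by
  classical
  intro hmem
  obtain ⟨N, v, hv, hN⟩ := exists_pow_X_mem L ha
  choose B hB using fun j => Ideal.mem_span_range_iff_exists_fun.1 (hN j)
  let y : Fin n → RP := fun j => v * X j ^ (N + 1)
  have hBy : Matrix.mulVec (Matrix.of B) (fun i => ι (a i)) = y := funext fun j => hB j
  have h1 : Matrix.mulVec (Matrix.of B * Mat) X = y := by rw [← Matrix.mulVec_mulVec, hMat, hBy]
  have h2 : Matrix.mulVec (Matrix.diagonal fun j => v * X j ^ N) X = y := by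
    funext j
    rw [Matrix.mulVec_diagonal, mul_assoc, ← pow_succ]
  let Q : Ideal RP := Ideal.span (Set.range fun j : Fin n => (X j ^ (N + 1) : RP))
  have hyQ : Ideal.span (Set.range y) ≤ Q := Ideal.span_le.2 (by
    rintro _ ⟨j, rfl⟩
    exact Ideal.mul_mem_left _ _ (Ideal.subset_span ⟨j, rfl⟩))
  have h3 : (Matrix.of B).det * (w * Mat.det) ∈ Q := by
    refine hyQ ?_
    have : (Ideal.span (Set.range fun i => ι (a i))) ≤ Submodule.comap (LinearMap.mulLeft RP (Matrix.of B).det) (Ideal.span (Set.range y)) := by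
      refine Ideal.span_le.2 ?_
      rintro _ ⟨i, rfl⟩
      have := det_mul_mem (fun i => ι (a i)) (Matrix.of B) i
      rw [hBy] at this
      exact this
    exact this hmem
  have h4 : w * ((Matrix.of B * Mat).det - (Matrix.diagonal fun j => v * X j ^ N).det) ∈ Q :=
    Ideal.mul_mem_left _ _ (hyQ (det_sub_det_mem (koz_X k n) _ _ y h1 h2))
  rw [Matrix.det_mul, Matrix.det_diagonal] at h4
  have h5 : w * ∏ j, (v * X j ^ N) ∈ Q := by
    have := Q.sub_mem h3 h4
    convert this using 1
    ring
  let m₀ : Fin n →₀ ℕ := Finsupp.equivFunOnFinite.symm fun _ => N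
  have hzero : ∀ q ∈ Q, coeff m₀ q = 0 := fun q hq => by
    obtain ⟨c, rfl⟩ := Ideal.mem_span_range_iff_exists_fun.1 hq
    rw [coeff_sum]
    refine Finset.sum_eq_zero fun j _ => ?_
    rw [X_pow_eq_monomial, coeff_mul_monomial', if_neg]
    intro hle
    have := hle j
    simp [m₀] at this
  have hprod : ∏ j : Fin n, (X j : RP) ^ N = monomial m₀ 1 := by
    rw [monomial_eq, Finsupp.prod_fintype _ _ fun i => pow_zero _, C_1, one_mul]
    simp [m₀]
  have h6 := hzero _ h5
  rw [Finset.prod_mul_distrib, Finset.prod_const, hprod, ← mul_assoc, coeff_mul_monomial', if_pos le_rfl,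
    tsub_self, mul_one] at h6
  change constantCoeff (w * v ^ _) = 0 at h6
  rw [map_mul, map_pow] at h6
  exact mul_ne_zero (fun h => hw (mem_orig.2 h)) (pow_ne_zero _ fun h => hv (mem_orig.2 h)) h6

omit ha in
theorem smul_det_sub_mem (hdet : ∀ g : G, Matrix.det ((L.ρ g : Matrix (Fin n) (Fin n) k)) = 1) (g : G) :
    g • Mat.det - Mat.det ∈ (Ideal.span (Set.range fun i => ι (a i))) := by
  classical
  let φ := MulSemiringAction.toRingHom G RP g
  let P : Matrix (Fin n) (Fin n) RP := ((L.ρ g : Matrix (Fin n) (Fin n) k).map (C : k →+* RP)).transpose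
  have h1 : Matrix.mulVec (φ.mapMatrix Mat * P) X = fun i => ι (a i) := by
    funext i
    have hP : Matrix.mulVec P X = fun j => g • (X j : RP) := funext fun j => by
      rw [L.hX]
      simp [P, Matrix.mulVec, dotProduct, smul_eq_C_mul]
    rw [← Matrix.mulVec_mulVec, hP, ← smul_ι g (a i), ← congrFun hMat i]
    simp [φ, Matrix.mulVec, dotProduct, Finset.smul_sum, smul_mul']
  have h2 := det_sub_det_mem (koz_X k n) _ _ (fun i => ι (a i)) h1 hMat
  rwa [Matrix.det_mul, Matrix.det_transpose, ← RingHom.mapMatrix_apply, ← RingHom.map_det, ← RingHom.map_det, hdet, map_one,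
    mul_one] at h2

include hG in
omit ha in
theorem rey_det_sub_mem (hdet : ∀ g : G, Matrix.det ((L.ρ g : Matrix (Fin n) (Fin n) k)) = 1) :
    ι (rey L Mat.det) - Mat.det ∈ (Ideal.span (Set.range fun i => ι (a i))) := by
  rw [ι_rey]
  have : avg (G := G) Mat.det - Mat.det = C (Fintype.card G : k)⁻¹ * ∑ g : G, (g • Mat.det - Mat.det) := by
    rw [Finset.sum_sub_distrib, Finset.sum_const, Finset.card_univ, mul_sub, avg, nsmul_eq_mul, ← mul_assoc,
      show ((Fintype.card G : ℕ) : RP) = C (Fintype.card G : k) from (map_natCast C _).symm, ← map_mul,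
      inv_mul_cancel₀ hG.ne_zero, map_one, one_mul]
  rw [this]
  exact Ideal.mul_mem_left _ _ (Ideal.sum_mem _ fun g _ => smul_det_sub_mem L hMat hdet g)

omit ha in
theorem orig_mul_det {f : RP} (hf : f ∈ orig k n) : f * Mat.det ∈ (Ideal.span (Set.range fun i => ι (a i))) := by
  rw [orig_eq_span] at hf
  obtain ⟨c, rfl⟩ := Ideal.mem_span_range_iff_exists_fun.1 hf
  rw [Finset.sum_mul]
  refine Ideal.sum_mem _ fun j _ => ?_
  have := det_mul_mem (X : Fin n → RP) Mat j
  rw [hMat] at this
  rw [mul_assoc, mul_comm (X j)]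
  exact Ideal.mul_mem_left _ _ this

theorem socle_aux {c : A} (hc : ∀ w : RP, w ∉ orig k n → w * ι c ∉ (Ideal.span (Set.range fun i => ι (a i))))
    {C' : Type u} [CommRing C'] [LocCoh.IsGorensteinLocalRing C'] (q : RP →+* C')
    (hq : ∀ f, q f = 0 ↔ ∃ w, w ∉ orig k n ∧ w * f ∈ (Ideal.span (Set.range fun i => ι (a i))))
    (hunit : ∀ u, u ∉ orig k n → IsUnit (q u)) (hsurj : ∀ z, ∃ f u, u ∉ orig k n ∧ z * q u = q f) :
    ∃ r u : RP, u ∉ orig k n ∧ r * ι c - u * Mat.det ∈ (Ideal.span (Set.range fun i => ι (a i))) := by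
  classical
  have hmax : ∀ z ∈ maximalIdeal (C'), ∀ f u, u ∉ orig k n → z * q u = q f → f ∈ orig k n :=
    fun z hz f u _ he => by
      by_contra hf
      exact (mem_maximalIdeal _).1 hz (isUnit_of_mul_isUnit_left (he ▸ hunit f hf))
  have hΔ : q Mat.det ≠ 0 := fun h => by
    obtain ⟨w, hw, hwd⟩ := (hq _).1 h
    exact det_not_mem L ha hMat hw hwd
  have hms : ∀ z ∈ maximalIdeal (C'), z * q Mat.det = 0 := fun z hz => by
    obtain ⟨f, u, hu, he⟩ := hsurj z
    refine (hunit u hu).mul_left_eq_zero.1 ?_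
    rw [mul_right_comm, he, ← map_mul]
    exact (hq _).2 ⟨1, fun h => by simp [mem_orig] at h, by
      rw [one_mul]; exact orig_mul_det L hMat (hmax z hz f u hu he)⟩
  obtain ⟨hnil, hsoc⟩ := LC.socle_of_gorenstein hΔ hms
  have hc0 : q (ι c) ≠ 0 := fun h => by
    obtain ⟨w, hw, hwc⟩ := (hq _).1 h
    exact hc w hw hwc
  obtain ⟨z, hz0, hz⟩ := exists_socle_multiple hnil hc0
  obtain ⟨l, hl⟩ := hsoc _ hz
  have hlu : IsUnit l := notMem_maximalIdeal.1 fun h => hz0 (by rw [hl]; exact hms l h)
  obtain ⟨m, hm⟩ := hlu.exists_left_inv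
  obtain ⟨f, u, hu, he⟩ := hsurj (m * z)
  have key : q (f * ι c - u * Mat.det) = 0 := by
    rw [map_sub, map_mul, map_mul, ← he]
    linear_combination (q u * m) * hl + (q u * q Mat.det) * hm
  obtain ⟨w, hw, hwI⟩ := (hq _).1 key
  refine ⟨w * f, w * u, fun h => ((inferInstance : (orig k n).IsMaximal).isPrime.mem_or_mem h).elim hw hu, ?_⟩
  rwa [mul_assoc, mul_assoc, ← mul_sub]

/-- At the origin the transition determinant generates the socle. -/
theorem exists_mul_sub_det {c : A} (hc : ∀ w : RP, w ∉ orig k n → w * ι c ∉ (Ideal.span (Set.range fun i => ι (a i)))) :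
    ∃ r u : RP, u ∉ orig k n ∧ r * ι c - u * Mat.det ∈ (Ideal.span (Set.range fun i => ι (a i))) := by
  classical
  haveI : IsRegularLocalRing RM := IsRegularRing.isRegularLocalRing_localization (orig k n)
  haveI : LocCoh.IsGorensteinLocalRing RM := LC.gorenstein_of_isRegularLocalRing
  let rs : List RM := List.ofFn fun i => algebraMap RP RM (ι (a i))
  have hofList : Ideal.ofList rs = (Ideal.span (Set.range fun i => ι (a i))).map (algebraMap RP RM) := by
    rw [Ideal.map_span, ← Set.range_comp]
    show Ideal.span {x | x ∈ rs} = _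
    congr 1
    ext
    simp [rs, List.mem_ofFn]
  have hrad := radical_localized L ha
  have hmem : ∀ r ∈ rs, r ∈ maximalIdeal RM := fun r hr => by
    rw [← hrad, ← hofList]
    exact Ideal.le_radical (Ideal.subset_span hr)
  have hdim : ringKrullDim RM = (n : WithBot ℕ∞) := by
    rw [IsLocalization.AtPrime.ringKrullDim_eq_height (orig k n) RM, height_orig]
    rfl
  have hreg := LC.isWeaklyRegular_of_sop (CotTLib.isCM_of_isRegularLocalRing RM) n hdim rs (List.length_ofFn)
    (by rw [hofList, hrad])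
  haveI := LC.gorenstein_quotient_ofList rs hmem hreg
  let q : RP →+* RM ⧸ Ideal.ofList rs := (Ideal.Quotient.mk _).comp (algebraMap RP RM)
  have hq : ∀ f, q f = 0 ↔ ∃ w, w ∉ orig k n ∧ w * f ∈ (Ideal.span (Set.range fun i => ι (a i))) := fun f => by
    show Ideal.Quotient.mk _ _ = 0 ↔ _
    rw [Ideal.Quotient.eq_zero_iff_mem, hofList, IsLocalization.algebraMap_mem_map_algebraMap_iff (orig k n).primeCompl]
    rfl
  have hunit : ∀ u, u ∉ orig k n → IsUnit (q u) := fun u hu =>
    ((IsLocalization.map_units RM (⟨u, hu⟩ : (orig k n).primeCompl)).map (Ideal.Quotient.mk (Ideal.ofList rs)))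
  have hsurj : ∀ z, ∃ f u, u ∉ orig k n ∧ z * q u = q f := fun z => by
    obtain ⟨z, rfl⟩ := Ideal.Quotient.mk_surjective z
    obtain ⟨⟨f, u⟩, rfl⟩ := IsLocalization.mk'_surjective (orig k n).primeCompl z
    exact ⟨f, u, u.2, by
      show Ideal.Quotient.mk _ _ * Ideal.Quotient.mk _ _ = _
      rw [← map_mul, IsLocalization.mk'_spec]
      rfl⟩
  exact socle_aux (C' := RM ⧸ Ideal.ofList rs) L ha hMat hc q hq hunit hsurj

include hG in
theorem gorenstein_localized (hdet : ∀ g : G, Matrix.det ((L.ρ g : Matrix (Fin n) (Fin n) k)) = 1)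
    [(origA k n A).IsPrime] : LocCoh.IsGorensteinLocalRing (Localization.AtPrime (origA k n A)) := by
  classical
  haveI := isNoetherian_inv L hG (A := A)
  let B := Localization.AtPrime (origA k n A)
  haveI : IsRegularLocalRing RM := IsRegularRing.isRegularLocalRing_localization (orig k n)
  let rsA : List A := List.ofFn a
  let rsR : List RM := rsA.map fun x => algebraMap RP RM (ι x)
  let rsB : List B := rsA.map (algebraMap A B)
  have hJ : Ideal.ofList rsA = Ideal.span (Set.range a) := by
    show Ideal.span {x | x ∈ rsA} = _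
    congr 1
    ext
    simp [rsA, List.mem_ofFn]
  have hofR : Ideal.ofList rsR = (Ideal.span (Set.range fun i => ι (a i))).map (algebraMap RP RM) := by
    show Ideal.ofList (rsA.map ((algebraMap RP RM).comp ι)) = _
    rw [← Ideal.map_ofList, hJ, ← Ideal.map_map, map_span_eq]
  have hofB : Ideal.ofList rsB = (Ideal.span (Set.range a)).map (algebraMap A B) := by
    rw [← Ideal.map_ofList, hJ]
  have hdim : ringKrullDim RM = (n : WithBot ℕ∞) := by
    rw [IsLocalization.AtPrime.ringKrullDim_eq_height (orig k n) RM, height_orig]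
    rfl
  have hregR := LC.isWeaklyRegular_of_sop (CotTLib.isCM_of_isRegularLocalRing RM) n hdim rsR
    (by simp [rsR, rsA]) (by rw [hofR, radical_localized L ha])
  -- regularity descends along the splitting
  have hregB : RingTheory.Sequence.IsWeaklyRegular B rsB := by
    refine isWeaklyRegular_of_mem rsB fun i hi b hb => ?_
    have hiA : i < rsA.length := by simpa [rsB] using hi
    have htakeB : Ideal.ofList (rsB.take i) = (Ideal.ofList (rsA.take i)).map (algebraMap A B) := by
      rw [Ideal.map_ofList, List.map_take]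
    obtain ⟨⟨c, v⟩, rfl⟩ := IsLocalization.mk'_surjective (origA k n A).primeCompl b
    rw [htakeB] at hb ⊢
    rw [show rsB[i] = algebraMap A B rsA[i] by simp [rsB], IsLocalization.mul_mk'_eq_mk'_of_mul,
      IsLocalization.mk'_mem_map_algebraMap_iff (origA k n A).primeCompl] at hb
    rw [IsLocalization.mk'_mem_map_algebraMap_iff (origA k n A).primeCompl]
    obtain ⟨d, hd, hdc⟩ := hb
    have h1 : rsR[i]'(by simpa [rsR] using hiA) * algebraMap RP RM (ι (d * c)) ∈ Ideal.ofList (rsR.take i) := by
      rw [show rsR[i]'(by simpa [rsR] using hiA) = algebraMap RP RM (ι rsA[i]) by simp [rsR],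
        ← map_mul, ← map_mul, show Ideal.ofList (rsR.take i) = (Ideal.ofList (rsA.take i)).map ((algebraMap RP RM).comp ι) by
          rw [Ideal.map_ofList, List.map_take]; rfl,
        show rsA[i] * (d * c) = d * (rsA[i] * c) by ring]
      exact Ideal.mem_map_of_mem ((algebraMap RP RM).comp ι) hdc
    have h2 := mem_of_isWeaklyRegular hregR i (by simpa [rsR] using hiA) _ h1
    rw [show Ideal.ofList (rsR.take i) = ((Ideal.ofList (rsA.take i)).map ι).map (algebraMap RP RM) by
        rw [Ideal.map_map, Ideal.map_ofList, List.map_take]; rfl,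
      IsLocalization.algebraMap_mem_map_algebraMap_iff (orig k n).primeCompl] at h2
    obtain ⟨w, hw, hwm⟩ := h2
    obtain ⟨e, he, hem⟩ := exists_mul_mem L hG hw hwm
    exact ⟨e * d, (origA k n A).primeCompl.mul_mem he hd, by rwa [mul_assoc]⟩
  have hmemB : ∀ r ∈ rsB, r ∈ maximalIdeal B := fun r hr => by
    obtain ⟨x, hx, rfl⟩ := List.mem_map.1 hr
    obtain ⟨i, rfl⟩ := List.mem_ofFn.1 hx
    exact (IsLocalization.AtPrime.to_map_mem_maximal_iff B _ _).2 (ha.1 i)
  refine gorenstein_of_ofList rsB hmemB hregB ?_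
  haveI := isLocalRing_quot' (ofList_le_max rsB hmemB)
  let q : A →+* B ⧸ Ideal.ofList rsB := (Ideal.Quotient.mk _).comp (algebraMap A B)
  have hq : ∀ c, q c = 0 ↔ ∃ d, d ∉ origA k n A ∧ d * c ∈ Ideal.span (Set.range a) := fun c => by
    show Ideal.Quotient.mk _ _ = 0 ↔ _
    rw [Ideal.Quotient.eq_zero_iff_mem, hofB, IsLocalization.algebraMap_mem_map_algebraMap_iff (origA k n A).primeCompl]
    rfl
  have hunit : ∀ u, u ∉ origA k n A → IsUnit (q u) := fun u hu =>
    ((IsLocalization.map_units B (⟨u, hu⟩ : (origA k n A).primeCompl)).map (Ideal.Quotient.mk (Ideal.ofList rsB)))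
  have hsurj : ∀ z, ∃ f u, u ∉ origA k n A ∧ z * q u = q f := fun z => by
    obtain ⟨z, rfl⟩ := Ideal.Quotient.mk_surjective z
    obtain ⟨⟨f, u⟩, rfl⟩ := IsLocalization.mk'_surjective (origA k n A).primeCompl z
    exact ⟨f, u, u.2, by
      show Ideal.Quotient.mk _ _ * Ideal.Quotient.mk _ _ = _
      rw [← map_mul, IsLocalization.mk'_spec]
      rfl⟩
  set s := rey (A := A) L Mat.det with hs
  have hsub := rey_det_sub_mem L hG hMat hdet
  rw [← hs] at hsub
  have hns : ∀ d, d ∉ origA k n A → d * s ∉ Ideal.span (Set.range a) := fun d hd h => by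
    refine det_not_mem L ha hMat (w := ι d) hd ?_
    have h' : ι (d * s) ∈ (Ideal.span (Set.range fun i => ι (a i))) := by rw [← map_span_eq]; exact Ideal.mem_map_of_mem _ h
    have : ι d * Mat.det = ι (d * s) - ι d * (ι s - Mat.det) := by rw [map_mul]; ring
    rw [this]
    exact sub_mem h' (Ideal.mul_mem_left _ _ hsub)
  have hs0 : q s ≠ 0 := fun h => by
    obtain ⟨d, hd, hds⟩ := (hq _).1 h
    exact hns d hd hds
  have hmul : ∀ x ∈ origA k n A, x * s ∈ Ideal.span (Set.range a) := fun x hx => by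
    refine mem_of_ι_mem_map L hG ?_
    rw [map_span_eq, map_mul, show ι x * ι s = ι x * (ι s - Mat.det) + ι x * Mat.det by ring]
    exact add_mem (Ideal.mul_mem_left _ _ hsub) (orig_mul_det L hMat hx)
  have hmsB : ∀ r ∈ maximalIdeal (B ⧸ Ideal.ofList rsB), r * q s = 0 := fun r hr => by
    obtain ⟨f, u, hu, he⟩ := hsurj r
    have hf : f ∈ origA k n A := by
      by_contra hf
      exact (mem_maximalIdeal _).1 hr (isUnit_of_mul_isUnit_left (he ▸ hunit f hf))
    refine (hunit u hu).mul_left_eq_zero.1 ?_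
    rw [mul_right_comm, he, ← map_mul]
    exact (hq _).2 ⟨1, Ideal.one_notMem _, by rw [one_mul]; exact hmul f hf⟩
  refine LC.gorenstein_of_socle ?_ hs0 hmsB fun t ht => ?_
  · have hle : maximalIdeal (B ⧸ Ideal.ofList rsB) ≤ (⊥ : Ideal (B ⧸ Ideal.ofList rsB)).radical := fun r hr => by
      obtain ⟨f, u, hu, he⟩ := hsurj r
      have hf : ι f ∈ orig k n := by
        by_contra hf
        exact (mem_maximalIdeal _).1 hr (isUnit_of_mul_isUnit_left (he ▸ hunit f hf))
      have hr' : algebraMap RP RM (ι f) ∈ ((Ideal.span (Set.range fun i => ι (a i))).map (algebraMap RP RM)).radical := by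
        rw [radical_localized L ha]
        exact (IsLocalization.AtPrime.to_map_mem_maximal_iff RM (orig k n) _).2 hf
      obtain ⟨N, hN⟩ := hr'
      rw [← map_pow, ← map_pow, IsLocalization.algebraMap_mem_map_algebraMap_iff (orig k n).primeCompl,
        ← map_span_eq] at hN
      obtain ⟨w, hw, hwf⟩ := hN
      refine ⟨N, (Submodule.mem_bot _).2 (((hunit u hu).pow N).mul_left_eq_zero.1 ?_)⟩
      rw [← mul_pow, he, ← map_pow]
      exact (hq _).2 (exists_mul_mem L hG hw hwf)
    obtain ⟨N, hN⟩ := Ideal.exists_pow_le_of_le_radical_of_fg hle (IsNoetherian.noetherian _)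
    exact ⟨N, le_bot_iff.1 hN⟩
  · obtain ⟨c, v, hv, htc⟩ := hsurj t
    obtain ⟨v', hv'⟩ := (hunit v hv).exists_right_inv
    have hct : t = q c * v' := by linear_combination v' * htc - t * hv'
    by_cases hc0 : q c = 0
    · exact ⟨0, by rw [hct, hc0, zero_mul, zero_mul]⟩
    have hcI : ∀ w : RP, w ∉ orig k n → w * ι c ∉ (Ideal.span (Set.range fun i => ι (a i))) := fun w hw h => by
      rw [← map_span_eq] at h
      obtain ⟨d, hd, hdc⟩ := exists_mul_mem L hG hw h
      exact hc0 ((hq _).2 ⟨d, hd, hdc⟩)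
    obtain ⟨r₀, u₀, hu₀, hru⟩ := exists_mul_sub_det L ha hMat hcI
    obtain ⟨u', hu', f, hf⟩ := exists_push (A := A) L hu₀
    set y := rey (A := A) L (f * r₀) with hy
    have hkey : y * c - u' * s ∈ Ideal.span (Set.range a) := by
      have h1 : f * r₀ * ι c - ι u' * Mat.det ∈ (Ideal.span (Set.range fun i => ι (a i))) := by
        rw [hf, mul_assoc, mul_assoc, ← mul_sub]
        exact Ideal.mul_mem_left _ _ hru
      rw [← map_span_eq] at h1
      have h2 := rey_mem_of_mem_map L h1
      rwa [map_sub, mul_comm _ (ι c), rey_ι_mul, rey_ι_mul, mul_comm c] at h2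
    have hqk : q y * q c = q u' * q s := by
      rw [← map_mul, ← map_mul, ← sub_eq_zero, ← map_sub]
      exact (hq _).2 ⟨1, Ideal.one_notMem _, by rw [one_mul]; exact hkey⟩
    by_cases hymem : y ∈ origA k n A
    · exfalso
      have h0 : q y * q c = 0 := by
        have hy' : q y ∈ maximalIdeal (B ⧸ Ideal.ofList rsB) := by
          rw [mem_maximalIdeal, mem_nonunits_iff]
          intro hu
          haveI := IsLocalHom.of_surjective (Ideal.Quotient.mk (Ideal.ofList rsB)) Ideal.Quotient.mk_surjective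
          have hu2 : IsUnit (algebraMap A B y) := isUnit_of_map_unit (Ideal.Quotient.mk (Ideal.ofList rsB)) _ hu
          exact (mem_maximalIdeal _).1 ((IsLocalization.AtPrime.to_map_mem_maximal_iff B _ _).2 hymem) hu2
        have h := ht _ hy'
        rw [hct, ← mul_assoc] at h
        exact (IsUnit.of_mul_eq_one _ (by rw [mul_comm]; exact hv' : v' * q v = 1)).mul_left_eq_zero.1 h
      exact hs0 ((hunit u' hu').mul_right_eq_zero.1 (hqk.symm.trans h0))
    · obtain ⟨y', hy'⟩ := (hunit y hymem).exists_right_inv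
      refine ⟨y' * q u' * v', ?_⟩
      linear_combination hct + (y' * v') * hqk - (q c * v') * hy'

omit ha hMat in
include hG in
theorem gorenstein_invariants (hdet : ∀ g : G, Matrix.det ((L.ρ g : Matrix (Fin n) (Fin n) k)) = 1) :
    LocCoh.IsGorensteinRing A := by
  classical
  haveI := isNoetherian_inv L hG (A := A)
  haveI := origA_isMaximal (A := A) L
  obtain ⟨a, ha⟩ := exists_sop L hG (A := A)
  have hx : ∀ i, ι (a i) ∈ Ideal.span (Set.range (X : Fin n → RP)) := fun i => orig_eq_span (k := k) (n := n) ▸ ha.1 i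
  choose Mat hMat using fun i => Ideal.mem_span_range_iff_exists_fun.1 (hx i)
  have hloc := gorenstein_localized L hG ha (Mat := Matrix.of Mat) (funext hMat) hdet
  letI := igrGraded (A := A) L
  have hirr : (GrSyz.irrel (igr L A)).toIdeal = origA k n A := irrel_eq L
  haveI : (GrSyz.irrel (igr L A)).toIdeal.IsPrime := hirr ▸ inferInstanceAs (origA k n A).IsPrime
  refine GrLib8.StarGor.gorensteinRing_of_atStarMax
    (GrLib8.isStarLocal_irrel (fun d hd => igr_neg L hd) (isField_deg0 L)) ?_
  exact GrSect6.gorenstein_atPrime_congr hirr hloc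

end Groth.Agent.InvGor
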